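import Mathlib

/-!
# Characteristically simple finite groups

A finite group without proper non-trivial characteristic subgroups is a direct power of a simple
group, and conversely.
-/

set_option autoImplicit false

namespace CfsgLib.CharSimple

variable {G : Type*} [Group G]

/-- Two disjoint normal subgroups generate their direct product. -/
theorem nonempty_sup_mulEquiv_prod (J M : Subgroup G) [J.Normal] [M.Normal] (hd : Disjoint J M) :
    Nonempty (↥(J ⊔ M) ≃* (↥J × ↥M)) := by
  have hc : ∀ (x : J) (y : M), Commute (J.subtype x) (M.subtype y) := fun x y =>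
    Subgroup.commute_of_normal_of_disjoint J M inferInstance inferInstance hd _ _ x.2 y.2
  let φ := MonoidHom.noncommCoprod J.subtype M.subtype hc
  have hinj : Function.Injective φ := by
    rw [← MonoidHom.ker_eq_bot_iff, Subgroup.eq_bot_iff_forall]
    rintro ⟨x, y⟩ hxy
    have h1 : (x : G) * (y : G) = 1 := hxy
    have hx : (x : G) ∈ M := by
      rw [eq_inv_of_mul_eq_one_left h1]; exact M.inv_mem y.2
    have hx1 : (x : G) = 1 := (Subgroup.disjoint_def.1 hd) x.2 hx
    rw [hx1, one_mul] at h1
    exact Prod.ext (Subtype.ext hx1) (Subtype.ext h1)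
  have hr : φ.range = J ⊔ M := by
    simp [φ, MonoidHom.noncommCoprod_range]
  exact ⟨((MonoidHom.ofInjective hinj).trans (MulEquiv.subgroupCongr hr)).symm⟩

/-- Prepending a coordinate to a direct power. -/
def consMulEquiv (S : Type*) [Group S] (k : ℕ) : ((Fin k → S) × S) ≃* (Fin (k + 1) → S) where
  toFun p := Fin.cons p.2 p.1
  invFun f := (Fin.tail f, f 0)
  left_inv p := by simp
  right_inv f := by simp
  map_mul' p q := by
    funext i
    refine Fin.cases ?_ ?_ i <;> simp

/-- A minimal normal subgroup is absorbed by, or disjoint from, any normal subgroup. -/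
theorem le_or_disjoint (M J : Subgroup G) [M.Normal] [J.Normal]
    (hM : ∀ K : Subgroup G, K.Normal → K ≤ M → K = ⊥ ∨ K = M) : M ≤ J ∨ Disjoint J M := by
  rcases hM (J ⊓ M) (Subgroup.normal_inf_normal J M) inf_le_right with h | h
  · exact Or.inr (disjoint_iff.2 h)
  · exact Or.inl (h ▸ inf_le_left)

/-- A finite characteristically simple group is a power of each of its minimal normal subgroups. -/
theorem exists_mulEquiv_pi_of_minimalNormal [Finite G]
    (h : ∀ H : Subgroup G, H.Characteristic → H = ⊥ ∨ H = ⊤)
    (N : Subgroup G) [N.Normal] (hN : N ≠ ⊥)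
    (hmin : ∀ K : Subgroup G, K.Normal → K ≤ N → K = ⊥ ∨ K = N) :
    ∃ k : ℕ, Nonempty (G ≃* (Fin k → N)) := by
  classical
  let P : Subgroup G → Prop := fun J => J.Normal ∧ ∃ k, Nonempty (↥J ≃* (Fin k → N))
  haveI : Finite (Subgroup G) := Finite.of_injective _ SetLike.coe_injective
  have hP0 : P ⊥ := ⟨inferInstance, 0, ⟨{
    toFun := fun _ => 1
    invFun := fun _ => 1
    left_inv := fun _ => Subsingleton.elim _ _
    right_inv := fun _ => Subsingleton.elim _ _
    map_mul' := fun _ _ => Subsingleton.elim _ _ }⟩⟩
  obtain ⟨J, ⟨hJn, k, ⟨eJ⟩⟩, hmax⟩ :=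
    (Set.toFinite {J | P J}).exists_maximal ⟨⊥, hP0⟩
  -- every automorphic image of `N` lies in `J`
  have himg : ∀ a : G ≃* G, N.map a.toMonoidHom ≤ J := by
    intro a
    set M := N.map a.toMonoidHom with hMdef
    haveI : M.Normal := Subgroup.Normal.map inferInstance _ a.surjective
    have hMmin : ∀ K : Subgroup G, K.Normal → K ≤ M → K = ⊥ ∨ K = M := by
      intro K hK hKM
      have hle : K.comap a.toMonoidHom ≤ N := by
        refine (Subgroup.comap_mono hKM).trans ?_
        rw [hMdef, Subgroup.comap_map_eq_self_of_injective a.injective]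
      have hKmap : (K.comap a.toMonoidHom).map a.toMonoidHom = K :=
        Subgroup.map_comap_eq_self_of_surjective a.surjective K
      rcases hmin _ (hK.comap _) hle with h0 | h0
      · left; rw [← hKmap, h0, Subgroup.map_bot]
      · right; rw [← hKmap, h0]
    rcases le_or_disjoint M J hMmin with hle | hd
    · exact hle
    · obtain ⟨e⟩ := nonempty_sup_mulEquiv_prod J M hd
      have eN : ↥M ≃* ↥N := (N.equivMapOfInjective a.toMonoidHom a.injective).symm
      have hP : P (J ⊔ M) := ⟨inferInstance, k + 1,
        ⟨(e.trans (eJ.prodCongr eN)).trans (consMulEquiv N k)⟩⟩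
      exact le_sup_right.trans (hmax hP le_sup_left)
  -- the subgroup generated by the images is characteristic
  set C := ⨆ a : G ≃* G, N.map a.toMonoidHom with hC
  haveI hCchar : C.Characteristic := by
    rw [Subgroup.characteristic_iff_map_le]
    intro b
    rw [hC, Subgroup.map_iSup]
    refine iSup_le fun a => ?_
    rw [Subgroup.map_map]
    exact le_iSup (fun a : G ≃* G => N.map a.toMonoidHom) (a.trans b)
  have hNC : N ≤ C := by
    refine le_trans ?_ (le_iSup (fun a : G ≃* G => N.map a.toMonoidHom) (MulEquiv.refl G))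
    intro x hx
    exact ⟨x, hx, rfl⟩
  have hCtop : C = ⊤ := (h C hCchar).resolve_left fun h0 => hN (le_bot_iff.1 (h0 ▸ hNC))
  have hJtop : J = ⊤ := top_le_iff.1 (hCtop ▸ iSup_le himg)
  exact ⟨k, ⟨(Subgroup.topEquiv.symm.trans (MulEquiv.subgroupCongr hJtop.symm)).trans eJ⟩⟩

/-- In a finite characteristically simple group a non-trivial normal subgroup of least order is
simple, and the group is a power of it. -/
theorem exists_simple_mulEquiv_pi [Finite G] [Nontrivial G]
    (h : ∀ H : Subgroup G, H.Characteristic → H = ⊥ ∨ H = ⊤) :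
    ∃ (S : Type) (_ : Group S) (_ : IsSimpleGroup S) (n : ℕ), 1 ≤ n ∧
      Nonempty (G ≃* (Fin n → S)) := by
  classical
  haveI : Finite (Subgroup G) := Finite.of_injective _ SetLike.coe_injective
  obtain ⟨N, ⟨hNn, hN⟩, hleast⟩ := Set.exists_min_image
    {N : Subgroup G | N.Normal ∧ N ≠ ⊥} (fun N => Nat.card N) (Set.toFinite _)
    ⟨⊤, inferInstance, fun h => bot_ne_top h.symm⟩
  have hmin : ∀ K : Subgroup G, K.Normal → K ≤ N → K = ⊥ ∨ K = N := fun K hK hKN =>
    or_iff_not_imp_left.2 fun hne => Subgroup.eq_of_le_of_card_ge hKN (hleast K ⟨hK, hne⟩)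
  obtain ⟨k, ⟨e⟩⟩ := exists_mulEquiv_pi_of_minimalNormal h N hN hmin
  have hk : 1 ≤ k := by
    by_contra hk
    obtain rfl : k = 0 := by omega
    haveI : Subsingleton G := e.toEquiv.subsingleton
    exact not_nontrivial G inferInstance
  have hsimple : IsSimpleGroup N := by
    haveI : Nontrivial N := (Subgroup.nontrivial_iff_ne_bot N).2 hN
    refine ⟨fun L hL => or_iff_not_imp_left.2 fun hLne => ?_⟩
    let i : Fin k := ⟨0, hk⟩
    let f : N →* G := e.symm.toMonoidHom.comp (MonoidHom.mulSingle (fun _ => N) i)
    have hf : Function.Injective f := e.symm.injective.comp (Pi.mulSingle_injective (M := fun _ => (N : Type _)) i)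
    have hLG : (L.map f).Normal := by
      constructor
      rintro _ ⟨x, hx, rfl⟩ g
      refine ⟨e g i * x * (e g i)⁻¹, hL.conj_mem x hx _, e.injective ?_⟩
      funext j
      rcases eq_or_ne j i with rfl | hj
      · simp [f]
      · simp [f, Pi.mulSingle_eq_of_ne hj]
    have hLne' : L.map f ≠ ⊥ := by
      rwa [Ne, Subgroup.map_eq_bot_iff_of_injective _ hf]
    have hc := hleast _ ⟨hLG, hLne'⟩
    rw [Subgroup.card_map_of_injective hf] at hc
    exact Subgroup.eq_top_of_le_card L hc
  haveI : Small.{0} N := Countable.toSmall N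
  haveI : IsSimpleGroup (Shrink.{0} N) := MulEquiv.isSimpleGroup (Shrink.mulEquiv (α := N))
  exact ⟨Shrink.{0} N, inferInstance, inferInstance, k, hk,
    ⟨e.trans (MulEquiv.piCongrRight fun _ => (Shrink.mulEquiv (α := N)).symm)⟩⟩

/-- A non-trivial element of a characteristic subgroup of a power of a simple group forces a
whole coordinate into it. -/
theorem exists_mulSingle_mem {S : Type*} [Group S] [IsSimpleGroup S] {n : ℕ}
    (H : Subgroup (Fin n → S)) [H.Characteristic] (hH : H ≠ ⊥) :
    ∃ i : Fin n, ∀ s : S, Pi.mulSingle i s ∈ H := by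
  classical
  obtain ⟨x, hx, hx1⟩ := (Subgroup.bot_or_exists_ne_one H).resolve_left hH
  obtain ⟨i, hi⟩ : ∃ i, x i ≠ 1 := by
    by_contra hc
    push Not at hc
    exact hx1 (funext hc)
  have fin : ∀ (j : Fin n) (s : S), s ≠ 1 → Pi.mulSingle j s ∈ H →
      ∃ i : Fin n, ∀ s : S, Pi.mulSingle i s ∈ H := by
    intro j s hs hmem
    refine ⟨j, fun t => ?_⟩
    let M : Subgroup S := H.comap (MonoidHom.mulSingle (fun _ => S) j)
    have hM : M.Normal := Subgroup.Normal.comap inferInstance _
    have hne : M ≠ ⊥ := fun h0 => hs (Subgroup.mem_bot.1 (h0 ▸ (hmem : s ∈ M)))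
    exact ((hM.eq_bot_or_eq_top.resolve_left hne) ▸ Subgroup.mem_top t : t ∈ M)
  by_cases hcom : ∃ t : S, x i * t * (x i)⁻¹ * t⁻¹ ≠ 1
  · obtain ⟨t, ht⟩ := hcom
    refine fin i _ ht ?_
    have h1 : x * Pi.mulSingle i t * x⁻¹ * (Pi.mulSingle i t)⁻¹ ∈ H := by
      have := H.mul_mem hx
        (Subgroup.Normal.conj_mem inferInstance _ (H.inv_mem hx) (Pi.mulSingle i t))
      simpa only [mul_assoc] using this
    convert h1 using 1
    funext j
    rcases eq_or_ne j i with rfl | hj
    · simp
    · simp [Pi.mulSingle_eq_of_ne hj]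
  · -- the entry is central, so the simple group is commutative
    push Not at hcom
    have hcen : x i ∈ Subgroup.center S := Subgroup.mem_center_iff.2 fun t => by
      have h1 := hcom t
      rw [mul_inv_eq_one, mul_inv_eq_iff_eq_mul] at h1
      exact h1.symm
    have hne : Subgroup.center S ≠ ⊥ := fun h0 => hi (Subgroup.mem_bot.1 (h0 ▸ hcen))
    have hcomm : ∀ a b : S, a * b = b * a := by
      intro a b
      have h1 : b ∈ Subgroup.center S :=
        ((inferInstance : (Subgroup.center S).Normal).eq_bot_or_eq_top.resolve_left hne) ▸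
          Subgroup.mem_top b
      exact Subgroup.mem_center_iff.1 h1 a
    by_cases hone : ∃ j : Fin n, j ≠ i
    · obtain ⟨j, hj⟩ := hone
      refine fin j (x i) hi ?_
      let φ : (Fin n → S) ≃* (Fin n → S) :=
        { toFun := fun y => y * Pi.mulSingle j (y i)
          invFun := fun y => y * Pi.mulSingle j (y i)⁻¹
          left_inv := fun y => by
            funext l
            rcases eq_or_ne l j with rfl | hl
            · simp [Pi.mulSingle_eq_of_ne, hj.symm]
            · simp [Pi.mulSingle_eq_of_ne, hl]
          right_inv := fun y => by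
            funext l
            rcases eq_or_ne l j with rfl | hl
            · simp [Pi.mulSingle_eq_of_ne, hj.symm]
            · simp [Pi.mulSingle_eq_of_ne, hl]
          map_mul' := fun y z => by
            funext l
            rcases eq_or_ne l j with rfl | hl
            · simp only [Pi.mul_apply, Pi.mulSingle_eq_same, mul_assoc]
              rw [← mul_assoc (z l), hcomm (z l) (y i), mul_assoc]
            · simp [Pi.mulSingle_eq_of_ne hl] }
      have hφ : φ x ∈ H := by
        have hfix := (inferInstance : H.Characteristic).fixed φ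
        rw [← hfix] at hx
        exact hx
      have := H.mul_mem (H.inv_mem hx) hφ
      simpa [φ] using this
    · push Not at hone
      refine fin i (x i) hi ?_
      convert hx using 1
      funext j
      rw [hone j, Pi.mulSingle_eq_same]

/-- A power of a simple group is characteristically simple. -/
theorem eq_bot_or_eq_top_of_mulEquiv_pi {S : Type*} [Group S] [IsSimpleGroup S] {n : ℕ}
    (e : G ≃* (Fin n → S)) (H : Subgroup G) [hH : H.Characteristic] : H = ⊥ ∨ H = ⊤ := by
  classical
  refine or_iff_not_imp_left.2 fun hne => ?_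
  set H' := H.comap e.symm.toMonoidHom with hH'
  haveI : H'.Characteristic := by
    rw [Subgroup.characteristic_iff_comap_eq]
    intro a
    have h2 := hH.fixed ((e.trans a).trans e.symm)
    ext y
    conv_rhs => rw [hH', ← h2]
    simp [hH', Subgroup.mem_comap]
  have hne' : H' ≠ ⊥ := by
    intro h0
    refine hne ((Subgroup.map_eq_bot_iff_of_injective H (f := e.toMonoidHom) e.injective).1 ?_)
    have h5 : (H.map e.toMonoidHom) = H' := Subgroup.map_equiv_eq_comap_symm' e H
    rw [h5]; exact h0
  obtain ⟨i, hi⟩ := exists_mulSingle_mem H' hne'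
  rw [Subgroup.eq_top_iff']
  intro g
  have hall : ∀ y : Fin n → S, y ∈ H' := by
    intro y
    rw [← Finset.noncommProd_mulSingle y]
    refine Subgroup.noncommProd_mem _ _ fun j _ => ?_
    let σ : (Fin n → S) ≃* (Fin n → S) :=
      { Equiv.arrowCongr (Equiv.swap i j) (Equiv.refl S) with map_mul' := fun _ _ => rfl }
    have hfix := (inferInstance : H'.Characteristic).fixed σ
    have h1 := hi (y j)
    rw [← hfix] at h1
    have h4 : σ (Pi.mulSingle (M := fun _ => S) i (y j)) = Pi.mulSingle j (y j) := by
      funext l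
      change Pi.mulSingle (M := fun _ => S) i (y j) ((Equiv.swap i j).symm l) = _
      rw [Equiv.symm_swap]
      simp only [Pi.mulSingle_apply]
      rcases eq_or_ne l j with rfl | hlj
      · simp
      · rw [if_neg hlj, if_neg]
        intro hc
        exact hlj (by simpa using congrArg (Equiv.swap i j) hc)
    rw [Subgroup.mem_comap] at h1
    rw [← h4]
    exact h1
  have h3 := hall (e g)
  simpa [hH'] using h3

end CfsgLib.CharSimple
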